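import Groth.Agent.RelAmpConsLib.Basic
import Groth.Agent.ConsLib.ModLoci
import Groth.Agent.ConsLib.PairProper
import Groth.Agent.CohCmpLib.LineBundle
import Groth.Agent.S4792
import Groth.Agent.S0054
import Groth.Agent.S4381
import Groth.Agent.S2491
import Groth.Agent.AmpleFinGenLib.Regular
import Groth.Agent.MiscFlat6.FreeStalks
import Groth.Agent.QCohLib.Coherent
import Groth.Agent.SeesawLib.Pulled
import Mathlib

/-! # Relative ampleness on the fibres of proper morphisms -/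

set_option autoImplicit false
set_option backward.isDefEq.respectTransparency false
set_option linter.all false
set_option maxHeartbeats 1000000
universe u

open CategoryTheory CategoryTheory.Limits AlgebraicGeometry Topology RichLib.LimBC
open KFlatLib (pb)
open RichLib.Strata (fib)

noncomputable section

namespace Groth.Agent.RelAmpConsLib

/-- Noetherian models of a proper morphism with an invertible module. -/
theorem exists_proper_model {X S : Scheme.{u}} [IsAffine S] (u : X ⟶ S) [IsProper u] [LocallyOfFinitePresentation u]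
    (L : X.Modules) (hL : PicF.IsInvertible L) :
    ∃ (X₀ S₀ : Scheme.{u}) (u₀ : X₀ ⟶ S₀) (q : S ⟶ S₀) (pX : X ⟶ X₀) (G : X₀.Modules),
      IsNoetherian S₀ ∧ IsProper u₀ ∧ IsPullback pX u u₀ q ∧ PicF.IsInvertible G ∧ Nonempty (pb pX G ≅ L) := by
  have hrk : FlatMod.IsFinLocFreeOfRank 1 L := (CohCmpLib.invertible_iff_rank_one L).1 hL
  haveI : Coh.IsQCoh L := AmpleFinGenLib.isQCoh_of_isInvertible hL
  have hfp : CohB1.IsFP L := (MiscFlat6.isFlat_and_isFP_iff.2 (fun x => by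
    obtain ⟨V, hV, hV'⟩ := hrk x
    exact ⟨V, 1, hV, hV'⟩)).2
  let A := ConsLib.zSys (Γ(S, ⊤) : Type u)
  haveI : ∀ i j (a : i ⟶ j), IsAffineHom (A.D.map a) := fun _ _ a => A.affine_map a
  haveI : ∀ i, IsNoetherian (A.D.obj i) := fun i => ConsLib.zSys_obj _ i
  let e : S ≅ A.c.pt := S.isoSpec ≪≫ (ConsLib.zSysIso _).symm
  obtain ⟨i, ⟨N⟩⟩ := DescFP.exists_model A.hc (u ≫ e.hom)
  haveI := N.lfp
  haveI := N.qc
  haveI := N.compactSpace
  haveI := N.quasiSeparatedSpace
  haveI hlft : LocallyOfFiniteType N.p := inferInstance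
  haveI : QuasiSeparated N.p := inferInstance
  let A' := ofStage A.D A.c A.hc i
  let B := RichLib.LimBC.pb A' N.p
  haveI : ∀ k l (b : k ⟶ l), IsAffineHom (B.D.map b) := fun _ _ b => B.affine_map b
  haveI : ∀ φ : Over i, IsNoetherian (B.D.obj φ) := fun φ =>
    @ConsLib.isNoetherian_of_ft _ _ (pullback.snd N.p (A.D.map φ.hom)) (ConsLib.zSys_obj _ φ.left)
      (MorphismProperty.pullback_snd _ _ hlft) (MorphismProperty.pullback_snd _ _ N.qc)
  let eY := N.sq.isoPullback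
  let c' : Cone B.D := B.c.extend eY.hom
  have hc' : IsLimit c' := B.hc.ofIsoLimit (Cone.ext eY.symm (fun φ => by simp [c', Cone.extend]))
  obtain ⟨φ, G, hG, ⟨eG⟩⟩ := ModDescLib.exists_coh_pullback (c := c') hc' L
    (fun x => FlatLib.exists_presentation_nhd hfp x)
  haveI : Coh.IsQCoh G := hG.1
  have hlim : AtLim A' N.p @IsProper := by
    show IsProper (pullback.snd N.p (A.c.π.app i))
    have h1 : eY.hom ≫ pullback.snd N.p (A.c.π.app i) = u ≫ e.hom := N.sq.isoPullback_hom_snd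
    rw [← Iso.inv_hom_id_assoc eY (pullback.snd N.p (A.c.π.app i)), h1]
    infer_instance
  haveI : CompactSpace (A.D.obj i) := inferInstance
  obtain ⟨φ₁, hφ₁⟩ := ConsLib.exists_at_isProper A' N.p hlim
  haveI : CompactSpace (B.D.obj φ) := inferInstance
  have hGfp : CohB1.IsFP G := QCohLib.isFP_of_isCoh G hG
  obtain ⟨φ₂, a, ha⟩ := (Groth.Agent.S4792.result B.D c' hc' φ G hGfp 1).1
    (SeesawLib.isFinLocFreeOfRank_of_iso hrk eG)
  obtain ⟨χ, b₁, b₂, -⟩ := IsCofilteredOrEmpty.cone_objs φ₁ φ₂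
  have hp : IsProper (pullback.snd N.p (A.D.map χ.hom)) := at_of_hom A' N.p b₁ hφ₁
  let u₀ : B.D.obj χ ⟶ A.D.obj χ.left := pullback.snd N.p (A.D.map χ.hom)
  let G' := pb (B.D.map b₂) (pb (B.D.map a) G)
  have hG' : PicF.IsInvertible G' :=
    AmpleDevLib.isInvertible_pb _ ((CohCmpLib.invertible_iff_rank_one _).2 ha)
  refine ⟨B.D.obj χ, A.D.obj χ.left, u₀, e.hom ≫ A.c.π.app χ.left, eY.hom ≫ B.c.π.app χ, G', inferInstance,
    hp, ?_, hG', ?_⟩
  · refine (isPullback_cone A' N.p χ).of_iso eY.symm (Iso.refl _) e.symm (Iso.refl _) ?_ ?_ ?_ ?_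
    · exact (Category.comp_id _).trans (Iso.inv_hom_id_assoc _ _).symm
    · have h1 : eY.hom ≫ pullback.snd N.p (A.c.π.app i) = u ≫ e.hom := N.sq.isoPullback_hom_snd
      rw [Iso.symm_hom, Iso.symm_hom, Iso.eq_inv_comp, ← Category.assoc, Iso.comp_inv_eq]
      exact h1
    · simp [u₀]; rfl
    · exact (Category.comp_id _).trans (Iso.inv_hom_id_assoc _ _).symm
  · obtain ⟨e₁⟩ := LimAmpleLib.pb_pb_iso (c'.π.app χ) (B.D.map b₂) (c'.π.app φ₂) (c'.w b₂) (pb (B.D.map a) G)
    obtain ⟨e₂⟩ := LimAmpleLib.pb_pb_iso (c'.π.app φ₂) (B.D.map a) (c'.π.app φ) (c'.w a) G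
    exact ⟨e₁ ≪≫ e₂ ≪≫ eG⟩

variable {X S : Scheme.{u}} (f : X ⟶ S) (L : X.Modules)

theorem amp_id_iff_of_affine [QuasiCompact f] (hL : PicF.IsInvertible L) {T Xt : Scheme.{u}} [IsAffine T] {t : T ⟶ S}
    {a : Xt ⟶ X} {ft : Xt ⟶ T} (hX : IsPullback a ft f t) :
    CohB1.IsAmple (pb a L) ↔ Amp f (𝟙 S) L t := by
  haveI : QuasiCompact ft := MorphismProperty.of_isPullback hX inferInstance
  rw [← amp_iff_of_isPullback (f := f) (g := 𝟙 S) (b := t) (gt := 𝟙 T) hL
    (IsPullback.of_vert_isIso ⟨by simp⟩) hX]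
  exact (Groth.Agent.S4381.result ft (pb a L)).symm

theorem amp_id_fiber_iff [QuasiCompact f] (hL : PicF.IsInvertible L) (s : S) :
    CohB1.IsAmple ((Scheme.Modules.pullback (f.fiberι s)).obj L) ↔ Amp f (𝟙 S) L (S.fromSpecResidueField s) :=
  amp_id_iff_of_affine f L hL (IsPullback.of_hasPullback f (S.fromSpecResidueField s))

theorem amp_id_open_iff [QuasiCompact f] (hL : PicF.IsInvertible L) {W : S.Opens} (hW : IsAffineOpen W) :
    CohB1.IsAmple (L.restrict (f ⁻¹ᵁ W).ι) ↔ Amp f (𝟙 S) L W.ι := by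
  haveI : IsAffine W.toScheme := hW
  rw [← amp_id_iff_of_affine f L hL (isPullback_morphismRestrict f W).flip]
  have e := (Scheme.Modules.restrictFunctorIsoPullback (f ⁻¹ᵁ W).ι).app L
  exact ⟨fun h => AmpleDevLib.isAmple_of_iso h.1 (AmpleDevLib.isInvertible_pb _ hL) e h,
    fun h => AmpleDevLib.isAmple_of_iso h.1 (AmpleThLib.restrict_isInvertible hL _) e.symm h⟩

theorem amp_point_of_open [QuasiCompact f] (hL : PicF.IsInvertible L) {W : S.Opens} (h : Amp f (𝟙 S) L W.ι)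
    {z : S} (hz : z ∈ W) : Amp f (𝟙 S) L (S.fromSpecResidueField z) :=
  (amp_residueField_congr hL W.ι (⟨z, hz⟩ : W)).1 (amp_comp hL _ rfl h)

/-- Over a Noetherian base the ample fibres form an open set. -/
theorem exists_open_noetherian [IsProper f] [IsNoetherian S] (hL : PicF.IsInvertible L) :
    ∃ O : S.Opens, (∀ s, Amp f (𝟙 S) L (S.fromSpecResidueField s) → s ∈ O) ∧
      ∀ s ∈ O, ∃ W : S.Opens, s ∈ W ∧ Amp f (𝟙 S) L W.ι := by
  refine ⟨⨆ W : {W : S.Opens // Amp f (𝟙 S) L W.ι}, W.1, fun s hs => ?_, fun s hs => ?_⟩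
  · obtain ⟨V, hsV, hV⟩ := Groth.Agent.S0054.result f L hL s ((amp_id_fiber_iff f L hL s).2 hs)
    obtain ⟨W, hW, hsW, hWV⟩ := exists_isAffineOpen_mem_and_subset (x := s) (U := V) hsV
    exact TopologicalSpace.Opens.mem_iSup.2 ⟨⟨W, (amp_id_open_iff f L hL hW).1 (hV W hWV hW)⟩, hsW⟩
  · obtain ⟨W, hW⟩ := TopologicalSpace.Opens.mem_iSup.1 hs
    exact ⟨W.1, hW, W.2⟩

variable [IsProper f] [LocallyOfFinitePresentation f]

/-- For a proper morphism of finite presentation the ample fibres form an open locally constructible set,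
over which the module is relatively ample. -/
theorem exists_open_amp (hL : PicF.IsInvertible L) :
    IsOpen {s : S | Amp f (𝟙 S) L (S.fromSpecResidueField s)} ∧
    IsLocallyConstructible {s : S | Amp f (𝟙 S) L (S.fromSpecResidueField s)} ∧
    ∀ s, Amp f (𝟙 S) L (S.fromSpecResidueField s) → ∃ W : S.Opens, s ∈ W ∧ Amp f (𝟙 S) L W.ι := by
  have key : ∀ U : S.Opens, IsAffineOpen U → ∃ O : U.toScheme.Opens,
      IsLocallyConstructible (O : Set U.toScheme) ∧
      (∀ v : U, v ∈ O ↔ Amp f (𝟙 S) L (S.fromSpecResidueField v.1)) ∧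
      ∀ v ∈ O, ∃ W : S.Opens, (v.1 : S) ∈ W ∧ Amp f (𝟙 S) L W.ι := by
    intro U hU
    haveI : IsAffine U.toScheme := hU
    let fU := pullback.snd f U.ι
    haveI : IsProper fU := inferInstanceAs (IsProper (pullback.snd f U.ι))
    haveI : LocallyOfFinitePresentation fU := MorphismProperty.pullback_snd _ _ inferInstance
    have hLU : PicF.IsInvertible (pb (pullback.fst f U.ι) L) := AmpleDevLib.isInvertible_pb _ hL
    obtain ⟨X₀, S₀, u₀, q, pX, G, _, _, sq, hG, ⟨eG⟩⟩ :=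
      exists_proper_model fU (pb (pullback.fst f U.ι) L) hLU
    obtain ⟨O₀, hO₁, hO₂⟩ := exists_open_noetherian u₀ G hG
    -- squares transferring between `f` and its model
    have trans : ∀ {T : Scheme.{u}} (t : T ⟶ U.toScheme),
        Amp f (𝟙 S) L (t ≫ U.ι) ↔ Amp u₀ (𝟙 S₀) G (t ≫ q) := by
      intro T t
      have h1 : IsPullback (pullback.fst fU t ≫ pullback.fst f U.ι) (pullback.snd fU t) f (t ≫ U.ι) :=
        (IsPullback.of_hasPullback fU t).paste_horiz (IsPullback.of_hasPullback f U.ι)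
      have h2 : IsPullback (pullback.fst fU t ≫ pX) (pullback.snd fU t) u₀ (t ≫ q) :=
        (IsPullback.of_hasPullback fU t).paste_horiz sq
      rw [← amp_iff_of_isPullback (f := f) (g := 𝟙 S) (b := t ≫ U.ι) (gt := 𝟙 T) hL
          (IsPullback.of_vert_isIso ⟨by simp⟩) h1,
        ← amp_iff_of_isPullback (f := u₀) (g := 𝟙 S₀) (b := t ≫ q) (gt := 𝟙 T) hG
          (IsPullback.of_vert_isIso ⟨by simp⟩) h2]
      let e : pb (pullback.fst fU t ≫ pX) G ≅ pb (pullback.fst fU t ≫ pullback.fst f U.ι) L :=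
        ((Scheme.Modules.pullbackComp (pullback.fst fU t) pX).app G).symm ≪≫
          (Scheme.Modules.pullback (pullback.fst fU t)).mapIso eG ≪≫
          (Scheme.Modules.pullbackComp (pullback.fst fU t) (pullback.fst f U.ι)).app L
      exact ⟨LimAmpleLib.relAmple_of_iso _ e.symm (AmpleDevLib.isInvertible_pb _ hG),
        LimAmpleLib.relAmple_of_iso _ e (AmpleDevLib.isInvertible_pb _ hL)⟩
    have hpt : ∀ v : U, Amp f (𝟙 S) L (S.fromSpecResidueField v.1) ↔
        Amp u₀ (𝟙 S₀) G (S₀.fromSpecResidueField (q v)) := by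
      intro v
      refine ((amp_residueField_congr hL U.ι (v : U.toScheme)).symm.trans (trans _)).trans ?_
      rw [← Scheme.Hom.SpecMap_residueFieldMap_fromSpecResidueField q (v : U.toScheme)]
      refine ⟨fun h => ?_, amp_comp hG _ rfl⟩
      refine (amp_id_fiber_iff u₀ G hG (q v)).1 ?_
      -- descend along the extension of residue fields
      let g := Spec.map (q.residueFieldMap (v : U.toScheme))
      haveI : Flat g := by
        rw [HasRingHomProperty.Spec_iff (P := @Flat)]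
        letI := (q.residueFieldMap (v : U.toScheme)).hom.toAlgebra
        exact RingHom.flat_algebraMap_iff.2 inferInstance
      haveI : Surjective g := ⟨fun x => ⟨IsLocalRing.closedPoint _, Subsingleton.elim _ _⟩⟩
      let p₀ := u₀.fiberι (q v)
      let k₀ := u₀.fiberToSpecResidueField (q v)
      haveI : QuasiCompact k₀ := MorphismProperty.pullback_snd _ _ inferInstance
      refine Groth.Agent.S2491.result k₀ g (pb p₀ G) (AmpleDevLib.isInvertible_pb _ hG) ?_
      have h' : IsPullback (pullback.fst k₀ g ≫ p₀) (pullback.snd k₀ g) u₀ (g ≫ S₀.fromSpecResidueField (q v)) :=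
        (IsPullback.of_hasPullback k₀ g).paste_horiz (IsPullback.of_hasPullback u₀ _)
      have h'' := (amp_id_iff_of_affine u₀ G hG h').2 h
      exact AmpleDevLib.isAmple_of_iso h''.1
        (AmpleDevLib.isInvertible_pb _ (AmpleDevLib.isInvertible_pb _ hG))
        ((Scheme.Modules.pullbackComp (pullback.fst k₀ g) p₀).app G).symm h''
    have hlc : IsLocallyConstructible (O₀ : Set S₀) :=
      IsRetrocompact.isLocallyConstructible O₀.2 fun _ _ _ => TopologicalSpace.NoetherianSpace.isCompact _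
    refine ⟨q ⁻¹ᵁ O₀, ConsLib.isLocallyConstructible_preimage q hlc, fun v => ?_, fun v hv => ?_⟩
    · rw [hpt v]
      exact ⟨fun h => by obtain ⟨W, hW, hA⟩ := hO₂ _ h; exact amp_point_of_open u₀ G hG hA hW, hO₁ _⟩
    · obtain ⟨W, hW, hA⟩ := hO₂ _ hv
      refine ⟨U.ι ''ᵁ (q ⁻¹ᵁ W), ⟨v, hW, rfl⟩, ?_⟩
      have h1 : Amp f (𝟙 S) L ((q ⁻¹ᵁ W).ι ≫ U.ι) :=
        (trans (q ⁻¹ᵁ W).ι).2 (amp_comp hG (q ∣_ W) (morphismRestrict_ι q W) hA)
      exact amp_comp hL (U.ι.isoImage (q ⁻¹ᵁ W)).inv (by simp) h1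
  refine ⟨?_, ?_, fun s hs => ?_⟩
  · rw [isOpen_iff_forall_mem_open]
    intro s hs
    obtain ⟨U, hU, hsU, -⟩ := exists_isAffineOpen_mem_and_subset (x := s) (U := ⊤) trivial
    obtain ⟨O, -, hiff, -⟩ := key U hU
    exact ⟨U.ι '' O, fun _ ⟨v, hv, hvz⟩ => hvz ▸ (hiff v).1 hv, U.ι.isOpenEmbedding.isOpenMap _ O.2,
      ⟨⟨s, hsU⟩, (hiff ⟨s, hsU⟩).2 hs, rfl⟩⟩
  · refine Groth.Agent.ProConsLib.isLocallyConstructible_iff_affine.2 fun U hU => ?_
    haveI : IsAffine U.toScheme := hU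
    obtain ⟨O, hc, hiff, -⟩ := key U hU
    convert hc.isConstructible using 1
    ext v
    exact (hiff v).symm
  · obtain ⟨U, hU, hsU, -⟩ := exists_isAffineOpen_mem_and_subset (x := s) (U := ⊤) trivial
    obtain ⟨O, -, hiff, hW⟩ := key U hU
    exact hW ⟨s, hsU⟩ ((hiff ⟨s, hsU⟩).2 hs)

theorem isRelAmple_of_forall (hL : PicF.IsInvertible L)
    (h : ∀ s, Amp f (𝟙 S) L (S.fromSpecResidueField s)) : RelAmple.IsRelAmple f L := by
  refine MiscFlat6.isRelAmple_of_local f fun y => ?_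
  obtain ⟨W, hyW, hW⟩ := (exists_open_amp f L hL).2.2 y (h y)
  exact ⟨W, hyW, fun V hV hVW => (amp_id_open_iff f L hL hV).2
    (amp_comp hL (S.homOfLE hVW) (S.homOfLE_ι hVW) hW)⟩

theorem amp_of_isRelAmple (hL : PicF.IsInvertible L) (h : RelAmple.IsRelAmple f L) (s : S) :
    Amp f (𝟙 S) L (S.fromSpecResidueField s) := by
  obtain ⟨U, hU, hsU, -⟩ := exists_isAffineOpen_mem_and_subset (x := s) (U := ⊤) trivial
  exact amp_point_of_open f L hL ((amp_id_open_iff f L hL hU).1 (h.2 ⟨U, hU⟩)) hsU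

end Groth.Agent.RelAmpConsLib
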