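import Groth.Agent.LimAmpleLib.RelAmple
import Groth.Agent.RichLib.FibreProper
import Groth.Agent.ProConsLib.Sch
import Mathlib

/-! # Relative ampleness on the fibres over a base -/

set_option autoImplicit false
set_option backward.isDefEq.respectTransparency false
set_option linter.all false
universe u

open CategoryTheory CategoryTheory.Limits AlgebraicGeometry Topology Opposite
open KFlatLib (pb)

noncomputable section

namespace Groth.Agent.RelAmpConsLib

open RichLib.Strata

variable {X Y S : Scheme.{u}} (f : X ⟶ Y) (g : Y ⟶ S) (L : X.Modules)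

/-- relative ampleness after base change along `t` -/
def Amp {T : Scheme.{u}} (t : T ⟶ S) : Prop :=
  RelAmple.IsRelAmple (fib f g t) (pb (pullback.fst f (pullback.fst g t)) L)

variable {f g L}

/-- base change of relative ampleness between two models of base changes -/
theorem amp_trans [QuasiCompact f] (hL : PicF.IsInvertible L) {T T' Xt Yt Xt' Yt' : Scheme.{u}}
    {t : T ⟶ S} (h : T' ⟶ T) {t' : T' ⟶ S} (ht : h ≫ t = t')
    {a : Xt ⟶ X} {ft : Xt ⟶ Yt} {b : Yt ⟶ Y} {gt : Yt ⟶ T} (hY : IsPullback b gt g t) (hX : IsPullback a ft f b)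
    {a' : Xt' ⟶ X} {ft' : Xt' ⟶ Yt'} {b' : Yt' ⟶ Y} {gt' : Yt' ⟶ T'} (hY' : IsPullback b' gt' g t')
    (hX' : IsPullback a' ft' f b') (H : RelAmple.IsRelAmple ft (pb a L)) :
    RelAmple.IsRelAmple ft' (pb a' L) := by
  haveI : QuasiCompact ft := MorphismProperty.of_isPullback hX inferInstance
  let m : Yt' ⟶ Yt := hY.lift b' (gt' ≫ h) (by rw [Category.assoc, ht]; exact hY'.w)
  have hmb : m ≫ b = b' := hY.lift_fst _ _ _
  let c : Xt' ⟶ Xt := hX.lift a' (ft' ≫ m) (by rw [Category.assoc, hmb]; exact hX'.w)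
  have hca : c ≫ a = a' := hX.lift_fst _ _ _
  have hsq : IsPullback c ft' ft m :=
    IsPullback.of_right (by rw [hca, hmb]; exact hX') (hX.lift_snd _ _ _) hX
  obtain ⟨e⟩ := LimAmpleLib.pb_pb_iso c a a' hca L
  exact LimAmpleLib.relAmple_of_iso ft' e (AmpleDevLib.isInvertible_pb a' hL) (LimAmpleLib.relAmple_baseChange' hsq H)

theorem amp_iff_of_isPullback [QuasiCompact f] (hL : PicF.IsInvertible L) {T Xt Yt : Scheme.{u}}
    {t : T ⟶ S} {a : Xt ⟶ X} {ft : Xt ⟶ Yt} {b : Yt ⟶ Y} {gt : Yt ⟶ T} (hY : IsPullback b gt g t)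
    (hX : IsPullback a ft f b) : RelAmple.IsRelAmple ft (pb a L) ↔ Amp f g L t :=
  ⟨amp_trans hL (𝟙 T) (Category.id_comp _) hY hX (IsPullback.of_hasPullback _ _) (IsPullback.of_hasPullback _ _),
    amp_trans hL (𝟙 T) (Category.id_comp _) (IsPullback.of_hasPullback _ _) (IsPullback.of_hasPullback _ _) hY hX⟩

theorem amp_comp [QuasiCompact f] (hL : PicF.IsInvertible L) {T T' : Scheme.{u}} {t : T ⟶ S} (h : T' ⟶ T)
    {t' : T' ⟶ S} (ht : h ≫ t = t') (H : Amp f g L t) : Amp f g L t' :=
  amp_trans hL h ht (IsPullback.of_hasPullback _ _) (IsPullback.of_hasPullback _ _)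
    (IsPullback.of_hasPullback _ _) (IsPullback.of_hasPullback _ _) H

theorem amp_residueField_congr [QuasiCompact f] (hL : PicF.IsInvertible L) {T : Scheme.{u}} (ι : T ⟶ S)
    [IsPreimmersion ι] (v : T) :
    Amp f g L (T.fromSpecResidueField v ≫ ι) ↔ Amp f g L (S.fromSpecResidueField (ι.base v)) := by
  haveI : IsIso (ι.residueFieldMap v) := by
    refine (ConcreteCategory.isIso_iff_bijective _).mpr ⟨(ι.residueFieldMap v).hom.injective, fun y => ?_⟩
    obtain ⟨y, rfl⟩ := T.residue_surjective v y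
    obtain ⟨z, rfl⟩ := ι.stalkMap_surjective v y
    exact ⟨S.residue (ι.base v) z, by
      rw [← ConcreteCategory.comp_apply, Scheme.residue_residueFieldMap]; rfl⟩
  have e := Scheme.Hom.SpecMap_residueFieldMap_fromSpecResidueField ι v
  exact ⟨amp_comp hL (inv (Spec.map (ι.residueFieldMap v)))
    (by rw [← e, IsIso.inv_hom_id_assoc]), amp_comp hL (Spec.map (ι.residueFieldMap v)) e⟩

theorem amp_fib_iff [QuasiCompact f] (hL : PicF.IsInvertible L) {T U : Scheme.{u}} (ι : T ⟶ S) (τ : U ⟶ T) :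
    Amp (fib f g ι) (pullback.snd g ι) (pb (pullback.fst f (pullback.fst g ι)) L) τ ↔ Amp f g L (τ ≫ ι) := by
  obtain ⟨e⟩ := LimAmpleLib.pb_pb_iso (pullback.fst (fib f g ι) (pullback.fst (pullback.snd g ι) τ))
    (pullback.fst f (pullback.fst g ι)) _ rfl L
  rw [← amp_iff_of_isPullback hL
    ((IsPullback.of_hasPullback (pullback.snd g ι) τ).paste_horiz (IsPullback.of_hasPullback g ι))
    ((IsPullback.of_hasPullback (fib f g ι) (pullback.fst (pullback.snd g ι) τ)).paste_horiz
      (IsPullback.of_hasPullback f (pullback.fst g ι)))]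
  exact ⟨LimAmpleLib.relAmple_of_iso _ e (AmpleDevLib.isInvertible_pb _ hL),
    LimAmpleLib.relAmple_of_iso _ e.symm (AmpleDevLib.isInvertible_pb _ (AmpleDevLib.isInvertible_pb _ hL))⟩

/-- relative ampleness of a fibre holds over a stratum through it -/
theorem exists_stratum [IsAffine S] [QuasiCompact g] [QuasiCompact f] [QuasiSeparated f]
    (hL : PicF.IsInvertible L) {s : S} (hs : Amp f g L (S.fromSpecResidueField s)) :
    ∃ (T : Scheme.{u}) (ι : T ⟶ S), IsAffine T ∧ IsPreimmersion ι ∧ LocallyOfFinitePresentation ι ∧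
      s ∈ Set.range ι.base ∧ Amp f g L ι := by
  haveI : CompactSpace Y := QuasiCompact.compactSpace_of_compactSpace g
  let q := S.isoSpec.hom.base s
  let Sy := sys Γ(S, ⊤) S.isoSpec q.asIdeal
  have hq : S.isoSpec.hom.base s = ⟨q.asIdeal, inferInstance⟩ := rfl
  have hlim : Amp f g L Sy.s := by
    have key : ∀ {K : Type u} [Field K] (x : Spec (CommRingCat.of K) ⟶ S),
        x.base (IsLocalRing.closedPoint K) = s → Amp f g L x := by
      intro K _ x hx
      subst hx
      rw [← Scheme.descResidueField_stalkClosedPointTo_fromSpecResidueField K S x]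
      exact amp_comp hL _ rfl hs
    exact key (K := q.asIdeal.ResidueField) Sy.s (s_base_apply Γ(S, ⊤) S.isoSpec q.asIdeal s hq _)
  obtain ⟨k, hk⟩ := LimAmpleLib.exists_relAmple_stage (RichLib.LimBC.pb Sy g) f hL
    (IsPullback.of_hasPullback f (pullback.fst g Sy.s)) hlim
  exact ⟨Sy.D.obj k, Sy.t k, inferInstanceAs (IsAffine (Spec (CommRingCat.of k.unop.B))),
    isPreimmersion_t _ _ _ k, locallyOfFinitePresentation_t _ _ _ k, mem_range_t _ _ _ s hq k, hk⟩

/-- the relatively ample fibres form an ind-constructible set -/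
theorem isIndConstructible_amp [QuasiCompact g] [QuasiCompact f] [QuasiSeparated f]
    (hL : PicF.IsInvertible L) : ProCons.IsIndConstructible {s : S | Amp f g L (S.fromSpecResidueField s)} := by
  intro x
  obtain ⟨U, hU, hxU, -⟩ := exists_isAffineOpen_mem_and_subset (x := x) (U := ⊤) trivial
  let E : Set S := {s : S | Amp f g L (S.fromSpecResidueField s)}
  refine ⟨U, U.2, hxU, {T : Set U | IsLocallyConstructible T ∧ T ⊆ Subtype.val ⁻¹' E},
    fun T hT => hT.1, Set.Subset.antisymm (fun u hu => ?_) (Set.sUnion_subset fun T hT => hT.2)⟩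
  haveI : IsAffine U.toScheme := hU
  have hu' : Amp f g L (U.toScheme.fromSpecResidueField (u : U.toScheme) ≫ U.ι) :=
    (amp_residueField_congr hL U.ι (u : U.toScheme)).2 hu
  obtain ⟨T, ι, _, _, _, ⟨w, hw⟩, hP⟩ := exists_stratum (AmpleDevLib.isInvertible_pb _ hL)
    ((amp_fib_iff hL U.ι _).2 hu')
  haveI : QuasiCompact ι := inferInstance
  refine Set.mem_sUnion.mpr ⟨Set.range ι.base, ⟨?_, ?_⟩, w, hw⟩
  · rw [← Set.image_univ]; exact ι.isLocallyConstructible_image IsLocallyConstructible.univ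
  · rintro _ ⟨v, rfl⟩
    show Amp f g L (S.fromSpecResidueField (U.ι.base (ι.base v)))
    refine (amp_residueField_congr hL U.ι (ι.base v)).1 ((amp_fib_iff hL U.ι _).1 ?_)
    exact (amp_residueField_congr (AmpleDevLib.isInvertible_pb _ hL) ι v).1
      (amp_comp (AmpleDevLib.isInvertible_pb _ hL) _ rfl hP)

theorem mem_amp_iff [QuasiCompact f] (hL : PicF.IsInvertible L) (s : S) :
    RelAmple.IsRelAmple
        (pullback.lift (pullback.fst (f ≫ g) (S.fromSpecResidueField s) ≫ f) (pullback.snd (f ≫ g) (S.fromSpecResidueField s))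
          ((Category.assoc _ _ _).trans pullback.condition) :
          pullback (f ≫ g) (S.fromSpecResidueField s) ⟶ pullback g (S.fromSpecResidueField s))
        ((Scheme.Modules.pullback (pullback.fst (f ≫ g) (S.fromSpecResidueField s))).obj L) ↔
      Amp f g L (S.fromSpecResidueField s) :=
  amp_iff_of_isPullback hL (IsPullback.of_hasPullback _ _) (RichLib.FibreRange.isPullback_fiber f g s)

end Groth.Agent.RelAmpConsLib
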